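import Cfsg.Agent.H16.P.ONB.D

/-! Generated by tools/h16 (computation kit). -/

set_option maxRecDepth 100000
set_option maxHeartbeats 0

namespace H16.PON

theorem tcm8e_1_7 : allZ (ent2 Tm8 Em8 (selR RLm8 Im8) Dm8 (nat_lit 262143) (nat_lit 122760) (nat_lit 122760) (nat_lit 183825) (nat_lit 8) (nat_lit 2097151) (nat_lit 4) (nat_lit 1)) (nat_lit 92736) (nat_lit 13248) = true := by decide +kernel
theorem tcm8e_1_8 : allZ (ent2 Tm8 Em8 (selR RLm8 Im8) Dm8 (nat_lit 262143) (nat_lit 122760) (nat_lit 122760) (nat_lit 183825) (nat_lit 8) (nat_lit 2097151) (nat_lit 4) (nat_lit 1)) (nat_lit 105984) (nat_lit 13248) = true := by decide +kernel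
theorem tcm8e_1_9 : allZ (ent2 Tm8 Em8 (selR RLm8 Im8) Dm8 (nat_lit 262143) (nat_lit 122760) (nat_lit 122760) (nat_lit 183825) (nat_lit 8) (nat_lit 2097151) (nat_lit 4) (nat_lit 1)) (nat_lit 119232) (nat_lit 13248) = true := by decide +kernel
theorem tcm8e_1_10 : allZ (ent2 Tm8 Em8 (selR RLm8 Im8) Dm8 (nat_lit 262143) (nat_lit 122760) (nat_lit 122760) (nat_lit 183825) (nat_lit 8) (nat_lit 2097151) (nat_lit 4) (nat_lit 1)) (nat_lit 132480) (nat_lit 13248) = true := by decide +kernel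
theorem tcm8e_1_11 : allZ (ent2 Tm8 Em8 (selR RLm8 Im8) Dm8 (nat_lit 262143) (nat_lit 122760) (nat_lit 122760) (nat_lit 183825) (nat_lit 8) (nat_lit 2097151) (nat_lit 4) (nat_lit 1)) (nat_lit 145728) (nat_lit 13248) = true := by decide +kernel
theorem tcm8e_1_12 : allZ (ent2 Tm8 Em8 (selR RLm8 Im8) Dm8 (nat_lit 262143) (nat_lit 122760) (nat_lit 122760) (nat_lit 183825) (nat_lit 8) (nat_lit 2097151) (nat_lit 4) (nat_lit 1)) (nat_lit 158976) (nat_lit 13248) = true := by decide +kernel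
theorem tcm8e_1_13 : allZ (ent2 Tm8 Em8 (selR RLm8 Im8) Dm8 (nat_lit 262143) (nat_lit 122760) (nat_lit 122760) (nat_lit 183825) (nat_lit 8) (nat_lit 2097151) (nat_lit 4) (nat_lit 1)) (nat_lit 172224) (nat_lit 11601) = true := by decide +kernel
theorem tcm8e_2_0 : allZ (ent2 Tm8 Em8 (selR RLm8 Im8) Dm8 (nat_lit 262143) (nat_lit 122760) (nat_lit 122760) (nat_lit 183825) (nat_lit 8) (nat_lit 2097151) (nat_lit 4) (nat_lit 2)) (nat_lit 0) (nat_lit 14144) = true := by decide +kernel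
theorem tcm8e_2_1 : allZ (ent2 Tm8 Em8 (selR RLm8 Im8) Dm8 (nat_lit 262143) (nat_lit 122760) (nat_lit 122760) (nat_lit 183825) (nat_lit 8) (nat_lit 2097151) (nat_lit 4) (nat_lit 2)) (nat_lit 14144) (nat_lit 14144) = true := by decide +kernel
theorem tcm8e_2_2 : allZ (ent2 Tm8 Em8 (selR RLm8 Im8) Dm8 (nat_lit 262143) (nat_lit 122760) (nat_lit 122760) (nat_lit 183825) (nat_lit 8) (nat_lit 2097151) (nat_lit 4) (nat_lit 2)) (nat_lit 28288) (nat_lit 14144) = true := by decide +kernel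
theorem tcm8e_2_3 : allZ (ent2 Tm8 Em8 (selR RLm8 Im8) Dm8 (nat_lit 262143) (nat_lit 122760) (nat_lit 122760) (nat_lit 183825) (nat_lit 8) (nat_lit 2097151) (nat_lit 4) (nat_lit 2)) (nat_lit 42432) (nat_lit 14144) = true := by decide +kernel
theorem tcm8e_2_4 : allZ (ent2 Tm8 Em8 (selR RLm8 Im8) Dm8 (nat_lit 262143) (nat_lit 122760) (nat_lit 122760) (nat_lit 183825) (nat_lit 8) (nat_lit 2097151) (nat_lit 4) (nat_lit 2)) (nat_lit 56576) (nat_lit 14144) = true := by decide +kernel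
theorem tcm8e_2_5 : allZ (ent2 Tm8 Em8 (selR RLm8 Im8) Dm8 (nat_lit 262143) (nat_lit 122760) (nat_lit 122760) (nat_lit 183825) (nat_lit 8) (nat_lit 2097151) (nat_lit 4) (nat_lit 2)) (nat_lit 70720) (nat_lit 14144) = true := by decide +kernel
theorem tcm8e_2_6 : allZ (ent2 Tm8 Em8 (selR RLm8 Im8) Dm8 (nat_lit 262143) (nat_lit 122760) (nat_lit 122760) (nat_lit 183825) (nat_lit 8) (nat_lit 2097151) (nat_lit 4) (nat_lit 2)) (nat_lit 84864) (nat_lit 14144) = true := by decide +kernel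
theorem tcm8e_2_7 : allZ (ent2 Tm8 Em8 (selR RLm8 Im8) Dm8 (nat_lit 262143) (nat_lit 122760) (nat_lit 122760) (nat_lit 183825) (nat_lit 8) (nat_lit 2097151) (nat_lit 4) (nat_lit 2)) (nat_lit 99008) (nat_lit 14144) = true := by decide +kernel
theorem tcm8e_2_8 : allZ (ent2 Tm8 Em8 (selR RLm8 Im8) Dm8 (nat_lit 262143) (nat_lit 122760) (nat_lit 122760) (nat_lit 183825) (nat_lit 8) (nat_lit 2097151) (nat_lit 4) (nat_lit 2)) (nat_lit 113152) (nat_lit 14144) = true := by decide +kernel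
theorem tcm8e_2_9 : allZ (ent2 Tm8 Em8 (selR RLm8 Im8) Dm8 (nat_lit 262143) (nat_lit 122760) (nat_lit 122760) (nat_lit 183825) (nat_lit 8) (nat_lit 2097151) (nat_lit 4) (nat_lit 2)) (nat_lit 127296) (nat_lit 14144) = true := by decide +kernel
theorem tcm8e_2_10 : allZ (ent2 Tm8 Em8 (selR RLm8 Im8) Dm8 (nat_lit 262143) (nat_lit 122760) (nat_lit 122760) (nat_lit 183825) (nat_lit 8) (nat_lit 2097151) (nat_lit 4) (nat_lit 2)) (nat_lit 141440) (nat_lit 14144) = true := by decide +kernel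
theorem tcm8e_2_11 : allZ (ent2 Tm8 Em8 (selR RLm8 Im8) Dm8 (nat_lit 262143) (nat_lit 122760) (nat_lit 122760) (nat_lit 183825) (nat_lit 8) (nat_lit 2097151) (nat_lit 4) (nat_lit 2)) (nat_lit 155584) (nat_lit 14144) = true := by decide +kernel
theorem tcm8e_2_12 : allZ (ent2 Tm8 Em8 (selR RLm8 Im8) Dm8 (nat_lit 262143) (nat_lit 122760) (nat_lit 122760) (nat_lit 183825) (nat_lit 8) (nat_lit 2097151) (nat_lit 4) (nat_lit 2)) (nat_lit 169728) (nat_lit 14097) = true := by decide +kernel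
theorem tcm8e_3_0 : allZ (ent2 Tm8 Em8 (selR RLm8 Im8) Dm8 (nat_lit 262143) (nat_lit 122760) (nat_lit 122760) (nat_lit 183825) (nat_lit 8) (nat_lit 2097151) (nat_lit 4) (nat_lit 3)) (nat_lit 0) (nat_lit 14208) = true := by decide +kernel
theorem tcm8e_3_1 : allZ (ent2 Tm8 Em8 (selR RLm8 Im8) Dm8 (nat_lit 262143) (nat_lit 122760) (nat_lit 122760) (nat_lit 183825) (nat_lit 8) (nat_lit 2097151) (nat_lit 4) (nat_lit 3)) (nat_lit 14208) (nat_lit 14208) = true := by decide +kernel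
theorem tcm8e_3_2 : allZ (ent2 Tm8 Em8 (selR RLm8 Im8) Dm8 (nat_lit 262143) (nat_lit 122760) (nat_lit 122760) (nat_lit 183825) (nat_lit 8) (nat_lit 2097151) (nat_lit 4) (nat_lit 3)) (nat_lit 28416) (nat_lit 14208) = true := by decide +kernel
theorem tcm8e_3_3 : allZ (ent2 Tm8 Em8 (selR RLm8 Im8) Dm8 (nat_lit 262143) (nat_lit 122760) (nat_lit 122760) (nat_lit 183825) (nat_lit 8) (nat_lit 2097151) (nat_lit 4) (nat_lit 3)) (nat_lit 42624) (nat_lit 14208) = true := by decide +kernel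

end H16.PON
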