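import Cfsg.Agent.H16.P.ONB.D

/-! Generated by tools/h16 (computation kit). -/

set_option maxRecDepth 100000
set_option maxHeartbeats 0

namespace H16.PON

theorem tcm8e_3_4 : allZ (ent2 Tm8 Em8 (selR RLm8 Im8) Dm8 (nat_lit 262143) (nat_lit 122760) (nat_lit 122760) (nat_lit 183825) (nat_lit 8) (nat_lit 2097151) (nat_lit 4) (nat_lit 3)) (nat_lit 56832) (nat_lit 14208) = true := by decide +kernel
theorem tcm8e_3_5 : allZ (ent2 Tm8 Em8 (selR RLm8 Im8) Dm8 (nat_lit 262143) (nat_lit 122760) (nat_lit 122760) (nat_lit 183825) (nat_lit 8) (nat_lit 2097151) (nat_lit 4) (nat_lit 3)) (nat_lit 71040) (nat_lit 14208) = true := by decide +kernel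
theorem tcm8e_3_6 : allZ (ent2 Tm8 Em8 (selR RLm8 Im8) Dm8 (nat_lit 262143) (nat_lit 122760) (nat_lit 122760) (nat_lit 183825) (nat_lit 8) (nat_lit 2097151) (nat_lit 4) (nat_lit 3)) (nat_lit 85248) (nat_lit 14208) = true := by decide +kernel
theorem tcm8e_3_7 : allZ (ent2 Tm8 Em8 (selR RLm8 Im8) Dm8 (nat_lit 262143) (nat_lit 122760) (nat_lit 122760) (nat_lit 183825) (nat_lit 8) (nat_lit 2097151) (nat_lit 4) (nat_lit 3)) (nat_lit 99456) (nat_lit 14208) = true := by decide +kernel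
theorem tcm8e_3_8 : allZ (ent2 Tm8 Em8 (selR RLm8 Im8) Dm8 (nat_lit 262143) (nat_lit 122760) (nat_lit 122760) (nat_lit 183825) (nat_lit 8) (nat_lit 2097151) (nat_lit 4) (nat_lit 3)) (nat_lit 113664) (nat_lit 14208) = true := by decide +kernel
theorem tcm8e_3_9 : allZ (ent2 Tm8 Em8 (selR RLm8 Im8) Dm8 (nat_lit 262143) (nat_lit 122760) (nat_lit 122760) (nat_lit 183825) (nat_lit 8) (nat_lit 2097151) (nat_lit 4) (nat_lit 3)) (nat_lit 127872) (nat_lit 14208) = true := by decide +kernel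
theorem tcm8e_3_10 : allZ (ent2 Tm8 Em8 (selR RLm8 Im8) Dm8 (nat_lit 262143) (nat_lit 122760) (nat_lit 122760) (nat_lit 183825) (nat_lit 8) (nat_lit 2097151) (nat_lit 4) (nat_lit 3)) (nat_lit 142080) (nat_lit 14208) = true := by decide +kernel
theorem tcm8e_3_11 : allZ (ent2 Tm8 Em8 (selR RLm8 Im8) Dm8 (nat_lit 262143) (nat_lit 122760) (nat_lit 122760) (nat_lit 183825) (nat_lit 8) (nat_lit 2097151) (nat_lit 4) (nat_lit 3)) (nat_lit 156288) (nat_lit 14208) = true := by decide +kernel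
theorem tcm8e_3_12 : allZ (ent2 Tm8 Em8 (selR RLm8 Im8) Dm8 (nat_lit 262143) (nat_lit 122760) (nat_lit 122760) (nat_lit 183825) (nat_lit 8) (nat_lit 2097151) (nat_lit 4) (nat_lit 3)) (nat_lit 170496) (nat_lit 13329) = true := by decide +kernel
theorem tcm8e_4_0 : allZ (ent2 Tm8 Em8 (selR RLm8 Im8) Dm8 (nat_lit 262143) (nat_lit 122760) (nat_lit 122760) (nat_lit 183825) (nat_lit 8) (nat_lit 2097151) (nat_lit 4) (nat_lit 4)) (nat_lit 0) (nat_lit 14016) = true := by decide +kernel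
theorem tcm8e_4_1 : allZ (ent2 Tm8 Em8 (selR RLm8 Im8) Dm8 (nat_lit 262143) (nat_lit 122760) (nat_lit 122760) (nat_lit 183825) (nat_lit 8) (nat_lit 2097151) (nat_lit 4) (nat_lit 4)) (nat_lit 14016) (nat_lit 14016) = true := by decide +kernel
theorem tcm8e_4_2 : allZ (ent2 Tm8 Em8 (selR RLm8 Im8) Dm8 (nat_lit 262143) (nat_lit 122760) (nat_lit 122760) (nat_lit 183825) (nat_lit 8) (nat_lit 2097151) (nat_lit 4) (nat_lit 4)) (nat_lit 28032) (nat_lit 14016) = true := by decide +kernel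
theorem tcm8e_4_3 : allZ (ent2 Tm8 Em8 (selR RLm8 Im8) Dm8 (nat_lit 262143) (nat_lit 122760) (nat_lit 122760) (nat_lit 183825) (nat_lit 8) (nat_lit 2097151) (nat_lit 4) (nat_lit 4)) (nat_lit 42048) (nat_lit 14016) = true := by decide +kernel
theorem tcm8e_4_4 : allZ (ent2 Tm8 Em8 (selR RLm8 Im8) Dm8 (nat_lit 262143) (nat_lit 122760) (nat_lit 122760) (nat_lit 183825) (nat_lit 8) (nat_lit 2097151) (nat_lit 4) (nat_lit 4)) (nat_lit 56064) (nat_lit 14016) = true := by decide +kernel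
theorem tcm8e_4_5 : allZ (ent2 Tm8 Em8 (selR RLm8 Im8) Dm8 (nat_lit 262143) (nat_lit 122760) (nat_lit 122760) (nat_lit 183825) (nat_lit 8) (nat_lit 2097151) (nat_lit 4) (nat_lit 4)) (nat_lit 70080) (nat_lit 14016) = true := by decide +kernel
theorem tcm8e_4_6 : allZ (ent2 Tm8 Em8 (selR RLm8 Im8) Dm8 (nat_lit 262143) (nat_lit 122760) (nat_lit 122760) (nat_lit 183825) (nat_lit 8) (nat_lit 2097151) (nat_lit 4) (nat_lit 4)) (nat_lit 84096) (nat_lit 14016) = true := by decide +kernel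
theorem tcm8e_4_7 : allZ (ent2 Tm8 Em8 (selR RLm8 Im8) Dm8 (nat_lit 262143) (nat_lit 122760) (nat_lit 122760) (nat_lit 183825) (nat_lit 8) (nat_lit 2097151) (nat_lit 4) (nat_lit 4)) (nat_lit 98112) (nat_lit 14016) = true := by decide +kernel
theorem tcm8e_4_8 : allZ (ent2 Tm8 Em8 (selR RLm8 Im8) Dm8 (nat_lit 262143) (nat_lit 122760) (nat_lit 122760) (nat_lit 183825) (nat_lit 8) (nat_lit 2097151) (nat_lit 4) (nat_lit 4)) (nat_lit 112128) (nat_lit 14016) = true := by decide +kernel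
theorem tcm8e_4_9 : allZ (ent2 Tm8 Em8 (selR RLm8 Im8) Dm8 (nat_lit 262143) (nat_lit 122760) (nat_lit 122760) (nat_lit 183825) (nat_lit 8) (nat_lit 2097151) (nat_lit 4) (nat_lit 4)) (nat_lit 126144) (nat_lit 14016) = true := by decide +kernel
theorem tcm8e_4_10 : allZ (ent2 Tm8 Em8 (selR RLm8 Im8) Dm8 (nat_lit 262143) (nat_lit 122760) (nat_lit 122760) (nat_lit 183825) (nat_lit 8) (nat_lit 2097151) (nat_lit 4) (nat_lit 4)) (nat_lit 140160) (nat_lit 14016) = true := by decide +kernel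
theorem tcm8e_4_11 : allZ (ent2 Tm8 Em8 (selR RLm8 Im8) Dm8 (nat_lit 262143) (nat_lit 122760) (nat_lit 122760) (nat_lit 183825) (nat_lit 8) (nat_lit 2097151) (nat_lit 4) (nat_lit 4)) (nat_lit 154176) (nat_lit 14016) = true := by decide +kernel
theorem tcm8e_4_12 : allZ (ent2 Tm8 Em8 (selR RLm8 Im8) Dm8 (nat_lit 262143) (nat_lit 122760) (nat_lit 122760) (nat_lit 183825) (nat_lit 8) (nat_lit 2097151) (nat_lit 4) (nat_lit 4)) (nat_lit 168192) (nat_lit 14016) = true := by decide +kernel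
theorem tcm8e_4_13 : allZ (ent2 Tm8 Em8 (selR RLm8 Im8) Dm8 (nat_lit 262143) (nat_lit 122760) (nat_lit 122760) (nat_lit 183825) (nat_lit 8) (nat_lit 2097151) (nat_lit 4) (nat_lit 4)) (nat_lit 182208) (nat_lit 1617) = true := by decide +kernel
theorem tcm8e_5_0 : allZ (ent2 Tm8 Em8 (selR RLm8 Im8) Dm8 (nat_lit 262143) (nat_lit 122760) (nat_lit 122760) (nat_lit 183825) (nat_lit 8) (nat_lit 2097151) (nat_lit 4) (nat_lit 5)) (nat_lit 0) (nat_lit 14016) = true := by decide +kernel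
theorem tcm8e_5_1 : allZ (ent2 Tm8 Em8 (selR RLm8 Im8) Dm8 (nat_lit 262143) (nat_lit 122760) (nat_lit 122760) (nat_lit 183825) (nat_lit 8) (nat_lit 2097151) (nat_lit 4) (nat_lit 5)) (nat_lit 14016) (nat_lit 14016) = true := by decide +kernel

end H16.PON
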