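import Cfsg.Agent.H16.P.ONB.D

/-! Generated by tools/h16 (computation kit). -/

set_option maxRecDepth 100000
set_option maxHeartbeats 0

namespace H16.PON

theorem tcm8e_6_12 : allZ (ent2 Tm8 Em8 (selR RLm8 Im8) Dm8 (nat_lit 262143) (nat_lit 122760) (nat_lit 122760) (nat_lit 183825) (nat_lit 8) (nat_lit 2097151) (nat_lit 4) (nat_lit 6)) (nat_lit 155136) (nat_lit 12928) = true := by decide +kernel
theorem tcm8e_6_13 : allZ (ent2 Tm8 Em8 (selR RLm8 Im8) Dm8 (nat_lit 262143) (nat_lit 122760) (nat_lit 122760) (nat_lit 183825) (nat_lit 8) (nat_lit 2097151) (nat_lit 4) (nat_lit 6)) (nat_lit 168064) (nat_lit 12928) = true := by decide +kernel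
theorem tcm8e_6_14 : allZ (ent2 Tm8 Em8 (selR RLm8 Im8) Dm8 (nat_lit 262143) (nat_lit 122760) (nat_lit 122760) (nat_lit 183825) (nat_lit 8) (nat_lit 2097151) (nat_lit 4) (nat_lit 6)) (nat_lit 180992) (nat_lit 2833) = true := by decide +kernel
theorem tcm8e_7_0 : allZ (ent2 Tm8 Em8 (selR RLm8 Im8) Dm8 (nat_lit 262143) (nat_lit 122760) (nat_lit 122760) (nat_lit 183825) (nat_lit 8) (nat_lit 2097151) (nat_lit 4) (nat_lit 7)) (nat_lit 0) (nat_lit 12800) = true := by decide +kernel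
theorem tcm8e_7_1 : allZ (ent2 Tm8 Em8 (selR RLm8 Im8) Dm8 (nat_lit 262143) (nat_lit 122760) (nat_lit 122760) (nat_lit 183825) (nat_lit 8) (nat_lit 2097151) (nat_lit 4) (nat_lit 7)) (nat_lit 12800) (nat_lit 12800) = true := by decide +kernel
theorem tcm8e_7_2 : allZ (ent2 Tm8 Em8 (selR RLm8 Im8) Dm8 (nat_lit 262143) (nat_lit 122760) (nat_lit 122760) (nat_lit 183825) (nat_lit 8) (nat_lit 2097151) (nat_lit 4) (nat_lit 7)) (nat_lit 25600) (nat_lit 12800) = true := by decide +kernel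
theorem tcm8e_7_3 : allZ (ent2 Tm8 Em8 (selR RLm8 Im8) Dm8 (nat_lit 262143) (nat_lit 122760) (nat_lit 122760) (nat_lit 183825) (nat_lit 8) (nat_lit 2097151) (nat_lit 4) (nat_lit 7)) (nat_lit 38400) (nat_lit 12800) = true := by decide +kernel
theorem tcm8e_7_4 : allZ (ent2 Tm8 Em8 (selR RLm8 Im8) Dm8 (nat_lit 262143) (nat_lit 122760) (nat_lit 122760) (nat_lit 183825) (nat_lit 8) (nat_lit 2097151) (nat_lit 4) (nat_lit 7)) (nat_lit 51200) (nat_lit 12800) = true := by decide +kernel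
theorem tcm8e_7_5 : allZ (ent2 Tm8 Em8 (selR RLm8 Im8) Dm8 (nat_lit 262143) (nat_lit 122760) (nat_lit 122760) (nat_lit 183825) (nat_lit 8) (nat_lit 2097151) (nat_lit 4) (nat_lit 7)) (nat_lit 64000) (nat_lit 12800) = true := by decide +kernel
theorem tcm8e_7_6 : allZ (ent2 Tm8 Em8 (selR RLm8 Im8) Dm8 (nat_lit 262143) (nat_lit 122760) (nat_lit 122760) (nat_lit 183825) (nat_lit 8) (nat_lit 2097151) (nat_lit 4) (nat_lit 7)) (nat_lit 76800) (nat_lit 12800) = true := by decide +kernel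
theorem tcm8e_7_7 : allZ (ent2 Tm8 Em8 (selR RLm8 Im8) Dm8 (nat_lit 262143) (nat_lit 122760) (nat_lit 122760) (nat_lit 183825) (nat_lit 8) (nat_lit 2097151) (nat_lit 4) (nat_lit 7)) (nat_lit 89600) (nat_lit 12800) = true := by decide +kernel
theorem tcm8e_7_8 : allZ (ent2 Tm8 Em8 (selR RLm8 Im8) Dm8 (nat_lit 262143) (nat_lit 122760) (nat_lit 122760) (nat_lit 183825) (nat_lit 8) (nat_lit 2097151) (nat_lit 4) (nat_lit 7)) (nat_lit 102400) (nat_lit 12800) = true := by decide +kernel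
theorem tcm8e_7_9 : allZ (ent2 Tm8 Em8 (selR RLm8 Im8) Dm8 (nat_lit 262143) (nat_lit 122760) (nat_lit 122760) (nat_lit 183825) (nat_lit 8) (nat_lit 2097151) (nat_lit 4) (nat_lit 7)) (nat_lit 115200) (nat_lit 12800) = true := by decide +kernel
theorem tcm8e_7_10 : allZ (ent2 Tm8 Em8 (selR RLm8 Im8) Dm8 (nat_lit 262143) (nat_lit 122760) (nat_lit 122760) (nat_lit 183825) (nat_lit 8) (nat_lit 2097151) (nat_lit 4) (nat_lit 7)) (nat_lit 128000) (nat_lit 12800) = true := by decide +kernel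
theorem tcm8e_7_11 : allZ (ent2 Tm8 Em8 (selR RLm8 Im8) Dm8 (nat_lit 262143) (nat_lit 122760) (nat_lit 122760) (nat_lit 183825) (nat_lit 8) (nat_lit 2097151) (nat_lit 4) (nat_lit 7)) (nat_lit 140800) (nat_lit 12800) = true := by decide +kernel
theorem tcm8e_7_12 : allZ (ent2 Tm8 Em8 (selR RLm8 Im8) Dm8 (nat_lit 262143) (nat_lit 122760) (nat_lit 122760) (nat_lit 183825) (nat_lit 8) (nat_lit 2097151) (nat_lit 4) (nat_lit 7)) (nat_lit 153600) (nat_lit 12800) = true := by decide +kernel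
theorem tcm8e_7_13 : allZ (ent2 Tm8 Em8 (selR RLm8 Im8) Dm8 (nat_lit 262143) (nat_lit 122760) (nat_lit 122760) (nat_lit 183825) (nat_lit 8) (nat_lit 2097151) (nat_lit 4) (nat_lit 7)) (nat_lit 166400) (nat_lit 12800) = true := by decide +kernel
theorem tcm8e_7_14 : allZ (ent2 Tm8 Em8 (selR RLm8 Im8) Dm8 (nat_lit 262143) (nat_lit 122760) (nat_lit 122760) (nat_lit 183825) (nat_lit 8) (nat_lit 2097151) (nat_lit 4) (nat_lit 7)) (nat_lit 179200) (nat_lit 4625) = true := by decide +kernel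
theorem tcm8p_0 : allZ (eps2 Tm8 Em8 Jm8 Wm8 RLm8 (nat_lit 262143) (nat_lit 122760) (nat_lit 183825) (nat_lit 8) (nat_lit 4)) (nat_lit 0) (nat_lit 5696) = true := by decide +kernel
theorem tcm8p_1 : allZ (eps2 Tm8 Em8 Jm8 Wm8 RLm8 (nat_lit 262143) (nat_lit 122760) (nat_lit 183825) (nat_lit 8) (nat_lit 4)) (nat_lit 5696) (nat_lit 5696) = true := by decide +kernel
theorem tcm8p_2 : allZ (eps2 Tm8 Em8 Jm8 Wm8 RLm8 (nat_lit 262143) (nat_lit 122760) (nat_lit 183825) (nat_lit 8) (nat_lit 4)) (nat_lit 11392) (nat_lit 5696) = true := by decide +kernel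
theorem tcm8p_3 : allZ (eps2 Tm8 Em8 Jm8 Wm8 RLm8 (nat_lit 262143) (nat_lit 122760) (nat_lit 183825) (nat_lit 8) (nat_lit 4)) (nat_lit 17088) (nat_lit 5696) = true := by decide +kernel
theorem tcm8p_4 : allZ (eps2 Tm8 Em8 Jm8 Wm8 RLm8 (nat_lit 262143) (nat_lit 122760) (nat_lit 183825) (nat_lit 8) (nat_lit 4)) (nat_lit 22784) (nat_lit 5696) = true := by decide +kernel
theorem tcm8p_5 : allZ (eps2 Tm8 Em8 Jm8 Wm8 RLm8 (nat_lit 262143) (nat_lit 122760) (nat_lit 183825) (nat_lit 8) (nat_lit 4)) (nat_lit 28480) (nat_lit 5696) = true := by decide +kernel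
theorem tcm8p_6 : allZ (eps2 Tm8 Em8 Jm8 Wm8 RLm8 (nat_lit 262143) (nat_lit 122760) (nat_lit 183825) (nat_lit 8) (nat_lit 4)) (nat_lit 34176) (nat_lit 5696) = true := by decide +kernel

end H16.PON
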