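import Cfsg.Agent.H16.P.ONB.D

/-! Generated by tools/h16 (computation kit). -/

set_option maxRecDepth 100000
set_option maxHeartbeats 0

namespace H16.PON

theorem ivc : ivChk Rl (nat_lit 8) = true := by decide +kernel
theorem tcm4e_a : allZ2 (ent2 Tm4 Em4 (selR RLm4 Im4) Dm4 (nat_lit 31) (nat_lit 32) (nat_lit 32) (nat_lit 32) (nat_lit 4) (nat_lit 255) (nat_lit 0)) (nat_lit 4) (nat_lit 32) = true := by decide +kernel
theorem tcm4p_0 : allZ (eps2 Tm4 Em4 Jm4 Wm4 RLm4 (nat_lit 31) (nat_lit 32) (nat_lit 32) (nat_lit 4) (nat_lit 0)) (nat_lit 0) (nat_lit 0) = true := by decide +kernel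
theorem tcm4r : rulesChk Rl cm4.Sl RLm4 (nat_lit 4) = true := by decide +kernel
theorem tcm4n : 0 < cm4.M ∧ cm4.n0 ≤ cm4.M ∧ 0 < cm4.K ∧ cm4.K ≤ 8 ∧ cm4.D 0 = 0 := by decide +kernel
theorem tcm4q : cm4.M - cm4.n = 0 := by decide +kernel
theorem stm4 : allL (ltAll 0) cm4.Sl = true ∧ 0 < cm4.n0 ∧ cm4.K = 4 ∧ cm4.n0 * 1 = 32 := by decide +kernel
theorem tcm5e_a : allZ2 (ent2 Tm5 Em5 (selR RLm5 Im5) Dm5 (nat_lit 31) (nat_lit 21) (nat_lit 21) (nat_lit 21) (nat_lit 5) (nat_lit 127) (nat_lit 0)) (nat_lit 5) (nat_lit 21) = true := by decide +kernel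
theorem tcm5p_0 : allZ (eps2 Tm5 Em5 Jm5 Wm5 RLm5 (nat_lit 31) (nat_lit 21) (nat_lit 21) (nat_lit 5) (nat_lit 0)) (nat_lit 0) (nat_lit 0) = true := by decide +kernel
theorem tcm5r : rulesChk Rl cm5.Sl RLm5 (nat_lit 5) = true := by decide +kernel
theorem tcm5n : 0 < cm5.M ∧ cm5.n0 ≤ cm5.M ∧ 0 < cm5.K ∧ cm5.K ≤ 8 ∧ cm5.D 0 = 0 := by decide +kernel
theorem tcm5q : cm5.M - cm5.n = 0 := by decide +kernel
theorem stm5 : allL (ltAll 4) cm5.Sl = true ∧ 0 < cm5.n0 ∧ cm5.K = 5 ∧ cm5.n0 * 32 = 672 := by decide +kernel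
theorem tcm6e_0_0 : allZ (ent2 Tm6 Em6 (selR RLm6 Im6) Dm6 (nat_lit 8191) (nat_lit 5586) (nat_lit 5586) (nat_lit 5598) (nat_lit 6) (nat_lit 65535) (nat_lit 1) (nat_lit 0)) (nat_lit 0) (nat_lit 5598) = true := by decide +kernel
theorem tcm6e_1_0 : allZ (ent2 Tm6 Em6 (selR RLm6 Im6) Dm6 (nat_lit 8191) (nat_lit 5586) (nat_lit 5586) (nat_lit 5598) (nat_lit 6) (nat_lit 65535) (nat_lit 1) (nat_lit 1)) (nat_lit 0) (nat_lit 5598) = true := by decide +kernel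
theorem tcm6e_2_0 : allZ (ent2 Tm6 Em6 (selR RLm6 Im6) Dm6 (nat_lit 8191) (nat_lit 5586) (nat_lit 5586) (nat_lit 5598) (nat_lit 6) (nat_lit 65535) (nat_lit 1) (nat_lit 2)) (nat_lit 0) (nat_lit 5598) = true := by decide +kernel
theorem tcm6e_3_0 : allZ (ent2 Tm6 Em6 (selR RLm6 Im6) Dm6 (nat_lit 8191) (nat_lit 5586) (nat_lit 5586) (nat_lit 5598) (nat_lit 6) (nat_lit 65535) (nat_lit 1) (nat_lit 3)) (nat_lit 0) (nat_lit 5598) = true := by decide +kernel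
theorem tcm6e_4_0 : allZ (ent2 Tm6 Em6 (selR RLm6 Im6) Dm6 (nat_lit 8191) (nat_lit 5586) (nat_lit 5586) (nat_lit 5598) (nat_lit 6) (nat_lit 65535) (nat_lit 1) (nat_lit 4)) (nat_lit 0) (nat_lit 5598) = true := by decide +kernel
theorem tcm6e_5_0 : allZ (ent2 Tm6 Em6 (selR RLm6 Im6) Dm6 (nat_lit 8191) (nat_lit 5586) (nat_lit 5586) (nat_lit 5598) (nat_lit 6) (nat_lit 65535) (nat_lit 1) (nat_lit 5)) (nat_lit 0) (nat_lit 5598) = true := by decide +kernel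
theorem tcm6p_0 : allZ (eps2 Tm6 Em6 Jm6 Wm6 RLm6 (nat_lit 8191) (nat_lit 5586) (nat_lit 5598) (nat_lit 6) (nat_lit 1)) (nat_lit 0) (nat_lit 12) = true := by decide +kernel
theorem tcm6r : rulesChk Rl cm6.Sl RLm6 (nat_lit 6) = true := by decide +kernel
theorem tcm6n : 0 < cm6.M ∧ cm6.n0 ≤ cm6.M ∧ 0 < cm6.K ∧ cm6.K ≤ 8 ∧ cm6.D 0 = 0 := by decide +kernel
theorem tcm6q : cm6.M - cm6.n = 12 := by decide +kernel
theorem stm6 : allL (ltAll 5) cm6.Sl = true ∧ 0 < cm6.n0 ∧ cm6.K = 6 ∧ cm6.n0 * 672 = 3753792 := by decide +kernel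
theorem tcm8e_0_0 : allZ (ent2 Tm8 Em8 (selR RLm8 Im8) Dm8 (nat_lit 262143) (nat_lit 122760) (nat_lit 122760) (nat_lit 183825) (nat_lit 8) (nat_lit 2097151) (nat_lit 4) (nat_lit 0)) (nat_lit 0) (nat_lit 13248) = true := by decide +kernel
theorem tcm8e_0_1 : allZ (ent2 Tm8 Em8 (selR RLm8 Im8) Dm8 (nat_lit 262143) (nat_lit 122760) (nat_lit 122760) (nat_lit 183825) (nat_lit 8) (nat_lit 2097151) (nat_lit 4) (nat_lit 0)) (nat_lit 13248) (nat_lit 13248) = true := by decide +kernel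
theorem tcm8e_0_2 : allZ (ent2 Tm8 Em8 (selR RLm8 Im8) Dm8 (nat_lit 262143) (nat_lit 122760) (nat_lit 122760) (nat_lit 183825) (nat_lit 8) (nat_lit 2097151) (nat_lit 4) (nat_lit 0)) (nat_lit 26496) (nat_lit 13248) = true := by decide +kernel
theorem tcm8e_0_3 : allZ (ent2 Tm8 Em8 (selR RLm8 Im8) Dm8 (nat_lit 262143) (nat_lit 122760) (nat_lit 122760) (nat_lit 183825) (nat_lit 8) (nat_lit 2097151) (nat_lit 4) (nat_lit 0)) (nat_lit 39744) (nat_lit 13248) = true := by decide +kernel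
theorem tcm8e_0_4 : allZ (ent2 Tm8 Em8 (selR RLm8 Im8) Dm8 (nat_lit 262143) (nat_lit 122760) (nat_lit 122760) (nat_lit 183825) (nat_lit 8) (nat_lit 2097151) (nat_lit 4) (nat_lit 0)) (nat_lit 52992) (nat_lit 13248) = true := by decide +kernel
theorem tcm8e_0_5 : allZ (ent2 Tm8 Em8 (selR RLm8 Im8) Dm8 (nat_lit 262143) (nat_lit 122760) (nat_lit 122760) (nat_lit 183825) (nat_lit 8) (nat_lit 2097151) (nat_lit 4) (nat_lit 0)) (nat_lit 66240) (nat_lit 13248) = true := by decide +kernel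
theorem tcm8e_0_6 : allZ (ent2 Tm8 Em8 (selR RLm8 Im8) Dm8 (nat_lit 262143) (nat_lit 122760) (nat_lit 122760) (nat_lit 183825) (nat_lit 8) (nat_lit 2097151) (nat_lit 4) (nat_lit 0)) (nat_lit 79488) (nat_lit 13248) = true := by decide +kernel
theorem tcm8e_0_7 : allZ (ent2 Tm8 Em8 (selR RLm8 Im8) Dm8 (nat_lit 262143) (nat_lit 122760) (nat_lit 122760) (nat_lit 183825) (nat_lit 8) (nat_lit 2097151) (nat_lit 4) (nat_lit 0)) (nat_lit 92736) (nat_lit 13248) = true := by decide +kernel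
theorem tcm8e_0_8 : allZ (ent2 Tm8 Em8 (selR RLm8 Im8) Dm8 (nat_lit 262143) (nat_lit 122760) (nat_lit 122760) (nat_lit 183825) (nat_lit 8) (nat_lit 2097151) (nat_lit 4) (nat_lit 0)) (nat_lit 105984) (nat_lit 13248) = true := by decide +kernel
theorem tcm8e_0_9 : allZ (ent2 Tm8 Em8 (selR RLm8 Im8) Dm8 (nat_lit 262143) (nat_lit 122760) (nat_lit 122760) (nat_lit 183825) (nat_lit 8) (nat_lit 2097151) (nat_lit 4) (nat_lit 0)) (nat_lit 119232) (nat_lit 13248) = true := by decide +kernel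
theorem tcm8e_0_10 : allZ (ent2 Tm8 Em8 (selR RLm8 Im8) Dm8 (nat_lit 262143) (nat_lit 122760) (nat_lit 122760) (nat_lit 183825) (nat_lit 8) (nat_lit 2097151) (nat_lit 4) (nat_lit 0)) (nat_lit 132480) (nat_lit 13248) = true := by decide +kernel
theorem tcm8e_0_11 : allZ (ent2 Tm8 Em8 (selR RLm8 Im8) Dm8 (nat_lit 262143) (nat_lit 122760) (nat_lit 122760) (nat_lit 183825) (nat_lit 8) (nat_lit 2097151) (nat_lit 4) (nat_lit 0)) (nat_lit 145728) (nat_lit 13248) = true := by decide +kernel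
theorem tcm8e_0_12 : allZ (ent2 Tm8 Em8 (selR RLm8 Im8) Dm8 (nat_lit 262143) (nat_lit 122760) (nat_lit 122760) (nat_lit 183825) (nat_lit 8) (nat_lit 2097151) (nat_lit 4) (nat_lit 0)) (nat_lit 158976) (nat_lit 13248) = true := by decide +kernel
theorem tcm8e_0_13 : allZ (ent2 Tm8 Em8 (selR RLm8 Im8) Dm8 (nat_lit 262143) (nat_lit 122760) (nat_lit 122760) (nat_lit 183825) (nat_lit 8) (nat_lit 2097151) (nat_lit 4) (nat_lit 0)) (nat_lit 172224) (nat_lit 11601) = true := by decide +kernel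
theorem tcm8e_1_0 : allZ (ent2 Tm8 Em8 (selR RLm8 Im8) Dm8 (nat_lit 262143) (nat_lit 122760) (nat_lit 122760) (nat_lit 183825) (nat_lit 8) (nat_lit 2097151) (nat_lit 4) (nat_lit 1)) (nat_lit 0) (nat_lit 13248) = true := by decide +kernel
theorem tcm8e_1_1 : allZ (ent2 Tm8 Em8 (selR RLm8 Im8) Dm8 (nat_lit 262143) (nat_lit 122760) (nat_lit 122760) (nat_lit 183825) (nat_lit 8) (nat_lit 2097151) (nat_lit 4) (nat_lit 1)) (nat_lit 13248) (nat_lit 13248) = true := by decide +kernel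
theorem tcm8e_1_2 : allZ (ent2 Tm8 Em8 (selR RLm8 Im8) Dm8 (nat_lit 262143) (nat_lit 122760) (nat_lit 122760) (nat_lit 183825) (nat_lit 8) (nat_lit 2097151) (nat_lit 4) (nat_lit 1)) (nat_lit 26496) (nat_lit 13248) = true := by decide +kernel
theorem tcm8e_1_3 : allZ (ent2 Tm8 Em8 (selR RLm8 Im8) Dm8 (nat_lit 262143) (nat_lit 122760) (nat_lit 122760) (nat_lit 183825) (nat_lit 8) (nat_lit 2097151) (nat_lit 4) (nat_lit 1)) (nat_lit 39744) (nat_lit 13248) = true := by decide +kernel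
theorem tcm8e_1_4 : allZ (ent2 Tm8 Em8 (selR RLm8 Im8) Dm8 (nat_lit 262143) (nat_lit 122760) (nat_lit 122760) (nat_lit 183825) (nat_lit 8) (nat_lit 2097151) (nat_lit 4) (nat_lit 1)) (nat_lit 52992) (nat_lit 13248) = true := by decide +kernel
theorem tcm8e_1_5 : allZ (ent2 Tm8 Em8 (selR RLm8 Im8) Dm8 (nat_lit 262143) (nat_lit 122760) (nat_lit 122760) (nat_lit 183825) (nat_lit 8) (nat_lit 2097151) (nat_lit 4) (nat_lit 1)) (nat_lit 66240) (nat_lit 13248) = true := by decide +kernel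
theorem tcm8e_1_6 : allZ (ent2 Tm8 Em8 (selR RLm8 Im8) Dm8 (nat_lit 262143) (nat_lit 122760) (nat_lit 122760) (nat_lit 183825) (nat_lit 8) (nat_lit 2097151) (nat_lit 4) (nat_lit 1)) (nat_lit 79488) (nat_lit 13248) = true := by decide +kernel

end H16.PON
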